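/-
The alternating sum over pairs of permutations of counts of matrices with given margins, through Cauchy's
determinant.
-/
import Mathlib.LinearAlgebra.Vandermonde
import Mathlib.RingTheory.MvPowerSeries.Basic
import Mathlib.RingTheory.MvPolynomial.Basic

set_option autoImplicit false

namespace CfsgLib.FlagChar

open Finset Matrix

set_option linter.unusedSectionVars false

section Det

variable {R : Type*} [CommRing R] {n : ℕ}

/-- The coefficient matrix of the polynomials `∏_{k ≠ j} (v - u y_k)`. -/
def cauchyCoeff (y : Fin n → R) : Matrix (Fin n) (Fin n) R :=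
  Matrix.of fun a j => ∑ t ∈ (univ.erase j).powersetCard (a : ℕ), ∏ k ∈ t, (-(y k))

lemma prod_erase_eq_projVandermonde_mul (u v y : Fin n → R) :
    Matrix.of (fun i j => ∏ k ∈ univ.erase j, (v i - u i * y k)) =
      projVandermonde u v * cauchyCoeff y := by
  ext i j
  have hcard : (univ.erase j).card = n - 1 := by simp
  have hn : n - 1 + 1 = n := by have := j.isLt; omega
  rw [Matrix.of_apply, Matrix.mul_apply]
  have h : ∀ k ∈ univ.erase j, v i - u i * y k = u i * (-(y k)) + v i := fun k _ => by ring
  rw [Finset.prod_congr rfl h, Finset.prod_add, Finset.sum_powerset, hcard, hn,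
    ← Fin.sum_univ_eq_sum_range]
  refine Finset.sum_congr rfl fun a _ => ?_
  rw [cauchyCoeff, Matrix.of_apply, Finset.mul_sum]
  refine Finset.sum_congr rfl fun t ht => ?_
  rw [Finset.mem_powersetCard] at ht
  rw [Finset.prod_mul_distrib, Finset.prod_const, Finset.prod_const, ht.2,
    Finset.card_sdiff_of_subset ht.1, hcard, ht.2]
  simp only [projVandermonde_apply, Fin.val_rev]
  rw [show n - 1 - (a : ℕ) = n - ((a : ℕ) + 1) by omega]
  ring

lemma prod_prod_erase (f : Fin n → Fin n → R) :
    ∏ j, ∏ k ∈ univ.erase j, f j k =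
      (∏ i : Fin n, ∏ j ∈ Ioi i, f i j) * ∏ i : Fin n, ∏ j ∈ Ioi i, f j i := by
  rw [Finset.prod_comm' (t' := univ) (s' := fun j => Iio j) (f := fun i j => f j i)
    (s := univ) (t := fun i => Ioi i) (by simp), ← Finset.prod_mul_distrib]
  refine Finset.prod_congr rfl fun j _ => ?_
  rw [← Finset.prod_union (disjoint_left.2 fun a ha hb => ?_)]
  · congr 1
    ext k
    simp only [mem_erase, mem_univ, and_true, mem_union, mem_Ioi, mem_Iio]
    omega
  · simp only [mem_Ioi, mem_Iio] at ha hb
    omega

lemma det_cauchyCoeff_of_injective [IsDomain R] (y : Fin n → R) (hy : Function.Injective y) :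
    (cauchyCoeff y).det = (vandermonde y).det := by
  have h := congrArg Matrix.det (prod_erase_eq_projVandermonde_mul (fun _ => (1 : R)) y y)
  have hdiag : Matrix.of (fun i j => ∏ k ∈ univ.erase j, (y i - 1 * y k)) =
      Matrix.diagonal fun j => ∏ k ∈ univ.erase j, (y j - y k) := by
    ext i j
    by_cases hij : i = j
    · subst hij; simp
    · rw [Matrix.diagonal_apply_ne _ hij, Matrix.of_apply]
      exact Finset.prod_eq_zero (i := i) (by simp [hij]) (by ring)
  rw [hdiag, Matrix.det_diagonal, Matrix.det_mul, det_projVandermonde,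
    prod_prod_erase (fun j k => y j - y k)] at h
  simp only [one_mul] at h
  rw [det_vandermonde]
  refine (mul_left_cancel₀ ?_ h).symm
  refine Finset.prod_ne_zero_iff.2 fun i _ => Finset.prod_ne_zero_iff.2 fun j hj => ?_
  exact sub_ne_zero.2 (hy.ne (ne_of_lt (Finset.mem_Ioi.1 hj)))

lemma det_cauchyCoeff (y : Fin n → R) : (cauchyCoeff y).det = (vandermonde y).det := by
  have h := congrArg (MvPolynomial.eval₂Hom (Int.castRingHom R) y)
    (det_cauchyCoeff_of_injective (R := MvPolynomial (Fin n) ℤ) MvPolynomial.X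
      (MvPolynomial.X_injective))
  rw [RingHom.map_det, RingHom.map_det] at h
  convert h using 2
  · ext a j
    simp [cauchyCoeff]
  · ext a j
    simp [vandermonde_apply]

/-- Cauchy's determinant, cleared of denominators. -/
theorem det_prod_erase_one_sub (x y : Fin n → R) :
    (Matrix.of fun i j => ∏ k ∈ univ.erase j, (1 - x i * y k)).det =
      (vandermonde x).det * (vandermonde y).det := by
  rw [prod_erase_eq_projVandermonde_mul x (fun _ => 1) y, Matrix.det_mul, det_cauchyCoeff,
    vandermonde_eq_projVandermonde x]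
  rfl

/-- Cauchy's determinant in the form used below. -/
theorem det_inverse_one_sub (x y : Fin n → R) (G : Matrix (Fin n) (Fin n) R)
    (hG : ∀ i j, G i j * (1 - x i * y j) = 1) :
    G.det = (∏ i, ∏ j, G i j) * ((vandermonde x).det * (vandermonde y).det) := by
  rw [← det_prod_erase_one_sub, ← Matrix.det_mul_column]
  congr 1
  ext i j
  rw [Matrix.of_apply, Matrix.of_apply, ← Finset.mul_prod_erase univ (fun k => G i k) (mem_univ j),
    mul_assoc, ← Finset.prod_mul_distrib]
  rw [Finset.prod_eq_one fun k _ => hG i k, mul_one]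

lemma det_vandermonde_eq_sum (x : Fin n → R) :
    (vandermonde x).det =
      ∑ κ : Equiv.Perm (Fin n), ((Equiv.Perm.sign κ : ℤ) : R) * ∏ i, x i ^ (κ i : ℕ) := by
  rw [← Matrix.det_transpose, Matrix.det_apply']
  exact Finset.sum_congr rfl fun κ _ => by simp [vandermonde_apply]

end Det

section Series

open MvPowerSeries

variable {σ : Type*} [DecidableEq σ]

/-- The geometric series `1 + M + M² + ⋯` of the monomial with exponent `m`. -/
noncomputable def geomSeries (m : σ →₀ ℕ) : MvPowerSeries σ ℤ :=
  fun d => haveI := Classical.propDecidable (∃ t : ℕ, d = t • m); if ∃ t : ℕ, d = t • m then 1 else 0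

lemma coeff_geomSeries (m d : σ →₀ ℕ) [Decidable (∃ t : ℕ, d = t • m)] :
    coeff d (geomSeries m) = if ∃ t : ℕ, d = t • m then 1 else 0 := by
  rw [MvPowerSeries.coeff_apply]
  unfold geomSeries
  by_cases h : ∃ t : ℕ, d = t • m <;> simp [h]

lemma geomSeries_mul_one_sub {m : σ →₀ ℕ} (hm : m ≠ 0) :
    geomSeries m * (1 - monomial m (1 : ℤ)) = 1 := by
  classical
  ext d
  rw [mul_sub, mul_one, map_sub, coeff_mul_monomial, coeff_one, mul_one, coeff_geomSeries]
  by_cases hd : d = 0
  · subst hd
    rw [if_pos ⟨0, (zero_nsmul m).symm⟩, if_neg (fun h => hm (le_antisymm h zero_le))]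
    simp
  · rw [if_neg hd]
    by_cases h : ∃ t : ℕ, d = t • m
    · obtain ⟨t, rfl⟩ := h
      cases t with
      | zero => exact absurd (zero_nsmul m) hd
      | succ t =>
        rw [if_pos ⟨t + 1, rfl⟩, if_pos (by rw [succ_nsmul]; exact le_add_self), coeff_geomSeries,
          if_pos ⟨t, by rw [succ_nsmul, add_tsub_cancel_right]⟩, sub_self]
    · rw [if_neg h]
      by_cases hle : m ≤ d
      · rw [if_pos hle, coeff_geomSeries, if_neg, sub_self]
        rintro ⟨t, ht⟩
        exact h ⟨t + 1, by rw [succ_nsmul, ← ht, tsub_add_cancel_of_le hle]⟩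
      · rw [if_neg hle, sub_self]

variable {P : Type*} [Fintype P]

/-- A product of geometric series counts the ways to write the exponent. -/
theorem coeff_prod_geomSeries (m : P → σ →₀ ℕ) (hm : ∀ p, m p ≠ 0) (d : σ →₀ ℕ) :
    coeff d (∏ p, geomSeries (m p)) = (Nat.card {N : P → ℕ // ∑ p, N p • m p = d} : ℤ) := by
  classical
  rw [MvPowerSeries.coeff_prod]
  simp only [coeff_geomSeries]
  rw [Finset.sum_congr rfl (fun l _ => Finset.prod_boole (M₀ := ℤ) (s := Finset.univ)
    (p := fun p => ∃ t : ℕ, l p = t • m p))]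
  simp only [Finset.mem_univ, true_implies]
  rw [Finset.sum_boole]
  norm_cast
  rw [← Nat.card_eq_finsetCard]
  have hinj : ∀ p, Function.Injective fun t : ℕ => t • m p := by
    intro p s t hst
    obtain ⟨a, ha⟩ := Finsupp.ne_iff.1 (hm p)
    exact mul_right_cancel₀ (b := m p a) (by simpa using ha) (by simpa using congr_arg (· a) hst)
  symm
  refine Nat.card_congr (Equiv.ofBijective (fun N => ⟨Finsupp.equivFunOnFinite.symm fun p => N.1 p • m p,
    by simpa [Finset.mem_finsuppAntidiag] using And.intro N.2 (fun p => ⟨N.1 p, rfl⟩ : ∀ p, ∃ t : ℕ, N.1 p • m p = t • m p)⟩) ⟨?_, ?_⟩)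
  · rintro ⟨N, hN⟩ ⟨N', hN'⟩ h
    ext p
    simp only [Subtype.mk.injEq] at h
    exact hinj p (by simpa using congr_arg (fun l => l p) h)
  · rintro ⟨l, hl⟩
    simp only [Finset.mem_filter, Finset.mem_finsuppAntidiag] at hl
    choose t ht using hl.2
    refine ⟨⟨t, by rw [← hl.1.1]; exact Finset.sum_congr rfl fun p _ => (ht p).symm⟩, ?_⟩
    ext1
    ext1 p
    simp [ht]

end Series

section Margins

variable {n : ℕ}

/-- The number of matrices of natural numbers with row sums `a` and column sums `b`. -/
noncomputable def marginCount (a b : Fin n → ℕ) : ℕ :=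
  Nat.card {N : Fin n → Fin n → ℕ // (∀ i, ∑ j, N i j = a i) ∧ ∀ j, ∑ i, N i j = b j}

/-- The exponent vector with `x`-part `a` and `y`-part `b`. -/
noncomputable def marginExp (a b : Fin n → ℕ) : Fin n ⊕ Fin n →₀ ℕ :=
  Finsupp.equivFunOnFinite.symm (Sum.elim a b)

lemma marginExp_tsub (a b a' b' : Fin n → ℕ) :
    marginExp a b - marginExp a' b' = marginExp (a - a') (b - b') := by
  ext s; cases s <;> simp [marginExp]

lemma marginExp_le {a b a' b' : Fin n → ℕ} :
    marginExp a' b' ≤ marginExp a b ↔ (∀ i, a' i ≤ a i) ∧ ∀ i, b' i ≤ b i := by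
  simp [Finsupp.le_def, marginExp]

lemma marginExp_single_ne_zero (i j : Fin n) :
    marginExp (Pi.single i 1) (Pi.single j 1) ≠ 0 := by
  intro h
  have := congr_arg (fun f => f (Sum.inl i)) h
  simp [marginExp] at this

lemma coeff_prod_prod_geomSeries (a b : Fin n → ℕ) :
    MvPowerSeries.coeff (marginExp a b)
      (∏ i, ∏ j, geomSeries (marginExp (Pi.single i 1) (Pi.single j 1))) =
      (marginCount a b : ℤ) := by
  rw [← Fintype.prod_prod_type', coeff_prod_geomSeries (fun p : Fin n × Fin n => marginExp (Pi.single p.1 1) (Pi.single p.2 1)) fun p => marginExp_single_ne_zero p.1 p.2]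
  norm_cast
  refine Nat.card_congr (Equiv.subtypeEquiv (Equiv.curry (Fin n) (Fin n) ℕ) fun N => ?_)
  rw [Finsupp.ext_iff, Sum.forall]
  simp only [Fintype.sum_prod_type]
  refine and_congr (forall_congr' fun i => ?_) (forall_congr' fun j => ?_)
  · simp [marginExp, Finsupp.finsetSum_apply, Pi.single_apply, Function.curry]
  · simp [marginExp, Finsupp.finsetSum_apply, Pi.single_apply, Function.curry]

lemma prod_X_pow (f : Fin n → Fin n ⊕ Fin n) (e : Fin n → ℕ) :
    ∏ i, (MvPowerSeries.X (f i) : MvPowerSeries (Fin n ⊕ Fin n) ℤ) ^ e i =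
      MvPowerSeries.monomial (∑ i, Finsupp.single (f i) (e i)) 1 := by
  simp only [MvPowerSeries.X_pow_eq]
  induction (univ : Finset (Fin n)) using Finset.induction_on with
  | empty => simp [MvPowerSeries.monomial_zero_eq_C]
  | insert a s ha ih => rw [Finset.prod_insert ha, Finset.sum_insert ha, ih,
      MvPowerSeries.monomial_mul_monomial, mul_one]

/-- The orthonormality identity behind the irreducible characters given by alternating sums of
permutation characters on flags (and on tabloids). -/
theorem sum_sign_mul_marginCount (l l' : Fin n → ℕ) (hl : StrictMono l) (hl' : StrictMono l') :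
    (∑ κ : Equiv.Perm (Fin n), ∑ κ' : Equiv.Perm (Fin n),
      if (∀ i, (κ i : ℕ) ≤ l i) ∧ ∀ i, (κ' i : ℕ) ≤ l' i then
        ((Equiv.Perm.sign κ : ℤ) * (Equiv.Perm.sign κ' : ℤ)) *
          (marginCount (fun i => l i - κ i) (fun i => l' i - κ' i) : ℤ)
      else 0) = if l = l' then 1 else 0 := by
  classical
  let G : Matrix (Fin n) (Fin n) (MvPowerSeries (Fin n ⊕ Fin n) ℤ) :=
    Matrix.of fun i j => geomSeries (marginExp (Pi.single i 1) (Pi.single j 1))
  let x : Fin n → MvPowerSeries (Fin n ⊕ Fin n) ℤ := fun i => MvPowerSeries.X (Sum.inl i)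
  let y : Fin n → MvPowerSeries (Fin n ⊕ Fin n) ℤ := fun i => MvPowerSeries.X (Sum.inr i)
  have hG : ∀ i j, G i j * (1 - x i * y j) = 1 := by
    intro i j
    have : x i * y j = MvPowerSeries.monomial (marginExp (Pi.single i 1) (Pi.single j 1)) 1 := by
      simp only [x, y, MvPowerSeries.X]
      rw [MvPowerSeries.monomial_mul_monomial, mul_one]
      congr 2
      ext s; cases s <;> simp [marginExp, Finsupp.single_apply, Pi.single_apply, eq_comm]
    rw [this]
    exact geomSeries_mul_one_sub (marginExp_single_ne_zero i j)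
  have key := congr_arg (MvPowerSeries.coeff (marginExp l l')) (det_inverse_one_sub x y G hG)
  -- the right side
  rw [det_vandermonde_eq_sum, det_vandermonde_eq_sum, Finset.sum_mul_sum, Finset.mul_sum,
    map_sum] at key
  simp only [Finset.mul_sum, map_sum] at key
  refine Eq.trans ?_ (key.symm.trans ?_)
  · refine Finset.sum_congr rfl fun κ _ => Finset.sum_congr rfl fun κ' _ => ?_
    have hk : (∏ i, x i ^ (κ i : ℕ)) * ∏ i, y i ^ (κ' i : ℕ) =
        MvPowerSeries.monomial (marginExp (fun i => (κ i : ℕ)) (fun i => (κ' i : ℕ))) 1 := by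
      simp only [x, y, prod_X_pow, MvPowerSeries.monomial_mul_monomial, mul_one]
      congr 2
      ext s
      cases s <;> simp [marginExp, Finsupp.finsetSum_apply, Finsupp.single_apply]
    have : ∀ a b : ℤ, (∏ i, ∏ j, G i j) * (((a : MvPowerSeries (Fin n ⊕ Fin n) ℤ) * ∏ i, x i ^ (κ i : ℕ)) *
        ((b : MvPowerSeries (Fin n ⊕ Fin n) ℤ) * ∏ i, y i ^ (κ' i : ℕ))) =
        (a * b) • ((∏ i, ∏ j, G i j) *
          MvPowerSeries.monomial (marginExp (fun i => (κ i : ℕ)) (fun i => (κ' i : ℕ))) 1) := by
      intro a b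
      rw [← hk, zsmul_eq_mul]
      push_cast
      ring
    rw [this, map_zsmul, smul_eq_mul, MvPowerSeries.coeff_mul_monomial, mul_one]
    simp only [marginExp_le]
    split_ifs with h
    · rw [marginExp_tsub]
      congr 1
      exact (coeff_prod_prod_geomSeries _ _).symm
    · simp
  · -- the left side: only the diagonal term of the determinant has this monomial
    rw [Matrix.det_apply', map_sum]
    have hterm : ∀ σ : Equiv.Perm (Fin n),
        MvPowerSeries.coeff (marginExp l l')
          (((Equiv.Perm.sign σ : ℤ) : MvPowerSeries (Fin n ⊕ Fin n) ℤ) * ∏ i, G (σ i) i) =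
        if (∀ i, l (σ i) = l' i) then (Equiv.Perm.sign σ : ℤ) else 0 := by
      intro σ
      rw [← zsmul_eq_mul, map_zsmul, smul_eq_mul]
      simp only [G, Matrix.of_apply]
      rw [coeff_prod_geomSeries (fun p => marginExp (Pi.single (σ p) 1) (Pi.single p 1)) fun p => marginExp_single_ne_zero (σ p) p]
      have hN : ∀ N : Fin n → ℕ,
          (∑ p, N p • marginExp (Pi.single (σ p) 1) (Pi.single p 1) = marginExp l l') ↔
            N = l' ∧ ∀ i, l (σ i) = l' i := by
        intro N
        rw [Finsupp.ext_iff, Sum.forall]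
        simp only [marginExp, Finsupp.finsetSum_apply, Finsupp.smul_apply,
          Finsupp.coe_equivFunOnFinite_symm, Sum.elim_inl, Sum.elim_inr, Pi.single_apply,
          smul_eq_mul, mul_ite, mul_one, mul_zero, Finset.sum_ite_eq, Finset.mem_univ, if_true]
        constructor
        · rintro ⟨h1, h2⟩
          refine ⟨funext h2, fun i => ?_⟩
          have := h1 (σ i)
          simp only [σ.injective.eq_iff, Finset.sum_ite_eq, Finset.mem_univ, if_true] at this
          rw [← this]; exact h2 i
        · rintro ⟨rfl, h⟩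
          refine ⟨fun a => ?_, fun i => rfl⟩
          obtain ⟨i, rfl⟩ := σ.surjective a
          simp [σ.injective.eq_iff, h]
      by_cases h : ∀ i, l (σ i) = l' i
      · rw [if_pos h]
        have : Nat.card {N : Fin n → ℕ //
            ∑ p, N p • marginExp (Pi.single (σ p) 1) (Pi.single p 1) = marginExp l l'} = 1 := by
          rw [Nat.card_congr (Equiv.subtypeEquivRight hN)]
          simp [h]
        rw [this]; simp
      · rw [if_neg h]
        have : IsEmpty {N : Fin n → ℕ //
            ∑ p, N p • marginExp (Pi.single (σ p) 1) (Pi.single p 1) = marginExp l l'} :=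
          ⟨fun N => h ((hN N.1).1 N.2).2⟩
        simp
    simp only [hterm]
    by_cases hll : l = l'
    · subst hll
      rw [if_pos rfl, Finset.sum_eq_single (1 : Equiv.Perm (Fin n))]
      · simp
      · intro σ _ hσ
        rw [if_neg]
        intro h
        exact hσ (Equiv.ext fun i => hl.injective (h i))
      · simp
    · rw [if_neg hll]
      refine Finset.sum_eq_zero fun σ _ => if_neg fun h => hll ?_
      have hσ : StrictMono σ := fun a b hab => hl.lt_iff_lt.1 (by rw [h, h]; exact hl' hab)
      funext i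
      have : (σ : Fin n → Fin n) = id := hσ.eq_id
      simpa [this] using h i

end Margins

end CfsgLib.FlagChar
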