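/-
Double cosets of standard parabolic subgroups of GL_n, of Young subgroups of Sym(n), and matrices with given margins.
-/
import Cfsg.Prelude.Def_LinearParabolics
import Cfsg.Agent.FlagChar.Cauchy
import Mathlib.LinearAlgebra.Matrix.Rank
import Mathlib.LinearAlgebra.Matrix.GeneralLinearGroup.Defs
import Mathlib.GroupTheory.DoubleCoset
import Mathlib.GroupTheory.GroupAction.Quotient

set_option autoImplicit false
set_option linter.unusedSectionVars false

namespace CfsgLib.FlagChar

open Finset Matrix
open scoped MatrixGroups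

/-! ### Block labels of compositions -/

section Labels

variable {n : ℕ}

lemma compLabel_le_iff (μ : Fin n → ℕ) (i a : Fin n) :
    Cfsg.compLabel μ i ≤ a.val ↔ i.val < ∑ k ∈ Iic a, μ k := by
  have hIic : ∀ j : Fin n, (univ.filter fun k : Fin n => k ≤ j) = Iic j := fun j => by ext; simp
  unfold Cfsg.compLabel
  simp only [hIic]
  constructor
  · intro h
    by_contra hc
    have hsub : Iic a ⊆ univ.filter fun j => ∑ k ∈ Iic j, μ k ≤ i.val := by
      intro j hj
      simp only [mem_filter, mem_univ, true_and]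
      exact le_trans (sum_le_sum_of_subset (Iic_subset_Iic.2 (mem_Iic.1 hj))) (not_lt.1 hc)
    have := card_le_card hsub
    simp only [Fin.card_Iic] at this
    omega
  · intro h
    have hsub : (univ.filter fun j => ∑ k ∈ Iic j, μ k ≤ i.val) ⊆ Iio a := by
      intro j hj
      simp only [mem_filter, mem_univ, true_and] at hj
      rw [mem_Iio]
      by_contra hc
      have := sum_le_sum_of_subset (f := μ) (Iic_subset_Iic.2 (not_lt.1 hc))
      omega
    simpa using card_le_card hsub

lemma compLabel_monotone (μ : Fin n → ℕ) : Monotone (Cfsg.compLabel μ) := by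
  intro i j hij
  refine card_le_card fun k hk => ?_
  simp only [mem_filter, mem_univ, true_and] at hk ⊢
  exact hk.trans hij

lemma compLabel_lt {μ : Fin n → ℕ} (hμ : ∑ i, μ i = n) (i : Fin n) : Cfsg.compLabel μ i < n := by
  have hn := i.isLt
  have h := (compLabel_le_iff μ i ⟨n - 1, by omega⟩).2 (by
    have : Iic (⟨n - 1, by omega⟩ : Fin n) = univ := by
      ext k; simp only [mem_Iic, mem_univ, iff_true, Fin.le_def]; omega
    rw [this, hμ]; exact hn)
  change _ ≤ n - 1 at h
  omega

lemma card_filter_compLabel_eq {μ : Fin n → ℕ} (hμ : ∑ i, μ i = n) (a : Fin n) :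
    (univ.filter fun i => Cfsg.compLabel μ i = a.val).card = μ a := by
  induction a using WellFoundedLT.induction with
  | ind a ih =>
    have hle : (univ.filter fun i => Cfsg.compLabel μ i ≤ a.val).card = ∑ k ∈ Iic a, μ k := by
      simp only [compLabel_le_iff]
      have hS : ∑ k ∈ Iic a, μ k ≤ n := (sum_le_sum_of_subset (subset_univ _)).trans_eq hμ
      rw [Fin.card_filter_val_lt]
      omega
    have hsum : (univ.filter fun i => Cfsg.compLabel μ i ≤ a.val).card =
        ∑ k ∈ Iic a, (univ.filter fun i => Cfsg.compLabel μ i = k.val).card := by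
      rw [Finset.card_eq_sum_card_fiberwise (t := Iic a)
        (f := fun i => (⟨Cfsg.compLabel μ i, compLabel_lt hμ i⟩ : Fin n))]
      · refine sum_congr rfl fun k hk => congr_arg card ?_
        ext i
        simp only [mem_filter, mem_univ, true_and, Fin.ext_iff]
        refine ⟨fun h => h.2, fun h => ⟨?_, h⟩⟩
        have := mem_Iic.1 hk
        omega
      · intro i hi
        simpa [Fin.le_def] using hi
    rw [hle, ← Finset.Iio_insert a, sum_insert (by simp), sum_insert (by simp),
      sum_congr rfl fun k hk => ih k (mem_Iio.1 hk)] at hsum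
    linarith

/-- The block label with values in `Fin n`. -/
def label {μ : Fin n → ℕ} (hμ : ∑ i, μ i = n) (i : Fin n) : Fin n :=
  ⟨Cfsg.compLabel μ i, compLabel_lt hμ i⟩

lemma card_filter_label_eq {μ : Fin n → ℕ} (hμ : ∑ i, μ i = n) (a : Fin n) :
    (univ.filter fun i => label hμ i = a).card = μ a := by
  simpa [label, Fin.ext_iff] using card_filter_compLabel_eq hμ a

end Labels

/-! ### Bruhat decomposition -/

section Bruhat

variable {n : ℕ} {F : Type*} [Field F]

/-- The permutation matrix sending the basis vector `e_j` to `e_(σ j)`, as an element of `GL`. -/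
def permGL (n : ℕ) (F : Type*) [Field F] : Equiv.Perm (Fin n) →* GL (Fin n) F :=
  MonoidHom.toHomUnits
    { toFun := fun σ => Matrix.of fun i j => if i = σ j then (1 : F) else 0
      map_one' := by ext i j; by_cases h : i = j <;> simp [Matrix.one_apply, h]
      map_mul' := fun σ τ => by ext i j; by_cases h : i = σ (τ j) <;> simp [Matrix.mul_apply, h] }

lemma permGL_apply (σ : Equiv.Perm (Fin n)) (i j : Fin n) :
    (permGL n F σ : Matrix (Fin n) (Fin n) F) i j = if i = σ j then 1 else 0 := rfl

/-- The first `k` columns of `M` are monomial, and their pivot rows vanish elsewhere. -/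
def IsReducedUpTo (M : Matrix (Fin n) (Fin n) F) (k : ℕ) : Prop :=
  ∃ σ : Fin n → Fin n, ∀ j : Fin n, j.val < k →
    M (σ j) j ≠ 0 ∧ (∀ i, i ≠ σ j → M i j = 0) ∧ ∀ j', j' ≠ j → M (σ j) j' = 0

lemma blockTriangular_one_add_vecMulVec (u w : Fin n → F)
    (h : ∀ i j : Fin n, j ≤ i → u i * w j = 0) :
    (1 + vecMulVec u w).BlockTriangular id ∧ (1 + vecMulVec u w).det = 1 := by
  have hb : (1 + vecMulVec u w).BlockTriangular id := fun i j hij => by
    simp only [id] at hij
    simp [Matrix.one_apply, hij.ne', vecMulVec_apply, h i j hij.le]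
  refine ⟨hb, ?_⟩
  rw [Matrix.det_of_isUpperTriangular hb]
  exact prod_eq_one fun i _ => by simp [vecMulVec_apply, h i i le_rfl]

lemma exists_reduced (M : Matrix (Fin n) (Fin n) F) (hM : M.det ≠ 0) (k : ℕ) (hk : k ≤ n) :
    ∃ b b' : Matrix (Fin n) (Fin n) F, b.BlockTriangular id ∧ b.det = 1 ∧ b'.BlockTriangular id ∧
      b'.det = 1 ∧ IsReducedUpTo (b * M * b') k := by
  classical
  induction k with
  | zero => exact ⟨1, 1, blockTriangular_one, det_one, blockTriangular_one, det_one, id,
      fun j hj => absurd hj (Nat.not_lt_zero _)⟩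
  | succ k ih =>
    obtain ⟨b, b', hb, hbd, hb', hbd', σ, hσ⟩ := ih (by omega)
    set M₀ := b * M * b' with hM₀
    have hdet : M₀.det ≠ 0 := by simp [hM₀, Matrix.det_mul, hbd, hbd', hM]
    let c : Fin n := ⟨k, by omega⟩
    have hne : (univ.filter fun i => M₀ i c ≠ 0).Nonempty := by
      rw [Finset.nonempty_iff_ne_empty]
      intro h
      refine hdet (Matrix.det_eq_zero_of_column_eq_zero c fun i => ?_)
      by_contra hi
      exact Finset.eq_empty_iff_forall_notMem.1 h i (by simp [hi])
    obtain ⟨r, hrmax⟩ : ∃ r, r = (univ.filter fun i => M₀ i c ≠ 0).max' hne := ⟨_, rfl⟩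
    have hr : M₀ r c ≠ 0 := by
      have := Finset.max'_mem _ hne
      rw [← hrmax] at this
      simpa using this
    have hgt : ∀ i, r < i → M₀ i c = 0 := by
      intro i hi
      by_contra h
      have := Finset.le_max' (univ.filter fun i => M₀ i c ≠ 0) i (by simp [h])
      rw [← hrmax] at this
      exact not_le.2 hi this
    have hrσ : ∀ j : Fin n, j.val < k → r ≠ σ j := by
      intro j hj h
      exact hr (h ▸ (hσ j hj).2.2 c (Fin.ne_of_val_ne (show k ≠ j.val by omega)))
    let u : Fin n → F := fun i => if i < r then -(M₀ i c / M₀ r c) else 0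
    have hu : ∀ i j : Fin n, j ≤ i → u i * (Pi.single r 1 : Fin n → F) j = 0 := by
      intro i j hij
      by_cases hj : j = r
      · subst hj; simp [u, not_lt.2 hij]
      · simp [hj]
    let b₁ : Matrix (Fin n) (Fin n) F := 1 + vecMulVec u (Pi.single r 1)
    obtain ⟨hb₁, hbd₁⟩ := blockTriangular_one_add_vecMulVec u (Pi.single r 1) hu
    have hM₁ : ∀ i j, (b₁ * M₀) i j = M₀ i j + u i * M₀ r j := by
      intro i j
      simp only [b₁, Matrix.add_mul, Matrix.one_mul, Matrix.add_apply]
      simp [Matrix.mul_apply, vecMulVec_apply, Pi.single_apply]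
    let w : Fin n → F := fun j => if c < j then -((b₁ * M₀) r j / (b₁ * M₀) r c) else 0
    have hw : ∀ i j : Fin n, j ≤ i → (Pi.single c 1 : Fin n → F) i * w j = 0 := by
      intro i j hij
      by_cases hi : i = c
      · subst hi; simp [w, not_lt.2 hij]
      · simp [hi]
    let b₂ : Matrix (Fin n) (Fin n) F := 1 + vecMulVec (Pi.single c 1) w
    obtain ⟨hb₂, hbd₂⟩ := blockTriangular_one_add_vecMulVec (Pi.single c 1) w hw
    have hM₂ : ∀ i j, (b₁ * M₀ * b₂) i j = (b₁ * M₀) i j + (b₁ * M₀) i c * w j := by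
      intro i j
      simp only [b₂, Matrix.mul_add, Matrix.mul_one, Matrix.add_apply]
      congr 1
      rw [Matrix.mul_apply, Finset.sum_eq_single c]
      · simp [vecMulVec_apply]
      · intro x _ hx; simp [vecMulVec_apply, hx]
      · simp
    refine ⟨b₁ * b, b' * b₂, hb₁.mul hb, by rw [det_mul, hbd, hbd₁, mul_one], hb'.mul hb₂,
      by rw [det_mul, hbd', hbd₂, mul_one], Function.update σ c r, ?_⟩
    rw [show b₁ * b * M * (b' * b₂) = b₁ * M₀ * b₂ by simp only [hM₀, Matrix.mul_assoc]]
    have hcol : ∀ i, i ≠ r → (b₁ * M₀) i c = 0 := by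
      intro i hi
      rw [hM₁]
      rcases lt_or_gt_of_ne hi with h | h
      · simp [u, h, div_mul_cancel₀ _ hr]
      · simp [u, hgt i h, h.le.not_gt]
    have hrr : (b₁ * M₀) r c ≠ 0 := by simpa [hM₁, u] using hr
    intro j hj
    by_cases hjc : j = c
    · subst hjc
      rw [Function.update_self]
      refine ⟨by simpa [hM₂, w] using hrr, fun i hi => by simp [hM₂, hcol i hi], fun j' hj' => ?_⟩
      rcases lt_or_gt_of_ne hj' with h | h
      · have h0 : M₀ r j' = 0 := (hσ j' h).2.1 r (hrσ j' h)
        simp [hM₂, hM₁, w, h.le.not_gt, h0]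
      · simp [hM₂, w, h, mul_div_cancel₀ _ hrr, mul_neg]
    · have hjk : j.val < k := by
        have : j.val ≠ k := fun h => hjc (Fin.ext h)
        omega
      have hjw : w j = 0 := by simp [w, show ¬ c < j from by simp [c, Fin.lt_def]; omega]
      obtain ⟨h1, h2, h3⟩ := hσ j hjk
      have hrj : M₀ r j = 0 := h2 r (hrσ j hjk)
      rw [Function.update_of_ne hjc]
      refine ⟨by simpa [hM₂, hM₁, hjw, hrj] using h1,
        fun i hi => by simp [hM₂, hM₁, hjw, hrj, h2 i hi], fun j' hj' => ?_⟩
      rw [hM₂, hcol _ (hrσ j hjk).symm, hM₁, h3 j' hj']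
      have hu' : u (σ j) = 0 := by
        simp only [u, h3 c (Ne.symm hjc), zero_div, neg_zero, ite_self]
      simp [hu']

/-- Bruhat decomposition in `GL_n`. -/
theorem exists_bruhat (g : GL (Fin n) F) :
    ∃ b ∈ Cfsg.upperTriangularGL n F, ∃ b' ∈ Cfsg.upperTriangularGL n F, ∃ σ : Equiv.Perm (Fin n),
      g = b * permGL n F σ * b' := by
  classical
  have hg : (g : Matrix (Fin n) (Fin n) F).det ≠ 0 := (Matrix.GeneralLinearGroup.det_ne_zero g)
  obtain ⟨b, b', hb, hbd, hb', hbd', σ, hσ⟩ := exists_reduced _ hg n le_rfl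
  set M := b * (g : Matrix (Fin n) (Fin n) F) * b' with hM
  have hinj : Function.Injective σ := by
    intro i j hij
    by_contra hne
    exact (hσ j j.isLt).1 (hij ▸ (hσ i i.isLt).2.2 j (Ne.symm hne))
  let s : Equiv.Perm (Fin n) := Equiv.ofBijective σ hinj.bijective_of_finite
  let d : Fin n → F := fun j => M (σ j) j
  let B : GL (Fin n) F := .mk'' b (by simp [hbd])
  let B' : GL (Fin n) F := .mk'' b' (by simp [hbd'])
  let D : GL (Fin n) F := .mk'' (diagonal d) (by
    simp [det_diagonal, isUnit_iff_ne_zero, prod_ne_zero_iff, d, (hσ _ (Fin.isLt _)).1])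
  have key : B * g * B' = permGL n F s * D := by
    refine Units.ext ?_
    change M = (permGL n F s : Matrix (Fin n) (Fin n) F) * diagonal d
    ext i j
    rw [mul_diagonal, permGL_apply]
    by_cases hi : i = σ j
    · subst hi; simp [s, d]
    · simp [(hσ j j.isLt).2.1 i hi, s, hi]
  refine ⟨B⁻¹, inv_mem (show B ∈ Cfsg.upperTriangularGL n F from hb), D * B'⁻¹,
    mul_mem (blockTriangular_diagonal d) (inv_mem (show B' ∈ Cfsg.upperTriangularGL n F from hb')),
    s, ?_⟩
  rw [← mul_assoc, mul_assoc _ _ D, ← key]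
  group

lemma upperTriangularGL_le_parabolicGL (μ : Fin n → ℕ) :
    Cfsg.upperTriangularGL n F ≤ Cfsg.parabolicGL n F μ :=
  fun _ hg i j hij => hg ((compLabel_monotone μ).reflect_lt hij)

lemma permGL_mem_parabolicGL {μ : Fin n → ℕ} {σ : Equiv.Perm (Fin n)}
    (h : σ ∈ Cfsg.youngSubgroup μ) : permGL n F σ ∈ Cfsg.parabolicGL n F μ := by
  intro i j hij
  rw [permGL_apply, if_neg]
  rintro rfl
  exact hij.ne (h j).symm

end Bruhat

/-! ### The rank invariant -/

section Rank

variable {n : ℕ} {F : Type*} [Field F]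

/-- The rank of the submatrix on the rows with label at least `a` and the columns with label at most `b`. -/
noncomputable def cornerRank (l m : Fin n → ℕ) (a b : ℕ) (g : Matrix (Fin n) (Fin n) F) : ℕ :=
  (g.submatrix (Subtype.val : {i // a ≤ l i} → Fin n) (Subtype.val : {j // m j ≤ b} → Fin n)).rank

lemma cornerRank_mul_le (l m : Fin n → ℕ) (a b : ℕ) {p g q : Matrix (Fin n) (Fin n) F}
    (hp : p.BlockTriangular l) (hq : q.BlockTriangular m) :
    cornerRank l m a b (p * g * q) ≤ cornerRank l m a b g := by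
  classical
  have : (p * g * q).submatrix (Subtype.val : {i // a ≤ l i} → Fin n)
      (Subtype.val : {j // m j ≤ b} → Fin n) =
      p.submatrix (Subtype.val : {i // a ≤ l i} → Fin n) (Subtype.val : {i // a ≤ l i} → Fin n) *
        g.submatrix (Subtype.val : {i // a ≤ l i} → Fin n) (Subtype.val : {j // m j ≤ b} → Fin n) *
        q.submatrix (Subtype.val : {j // m j ≤ b} → Fin n) (Subtype.val : {j // m j ≤ b} → Fin n) := by
    ext i j
    simp only [submatrix_apply, Matrix.mul_apply, Finset.sum_mul]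
    conv_lhs => rw [← Finset.sum_subset (subset_univ (univ.filter fun k => m k ≤ b)) (fun k _ hk => by
      have hk : b < m k := by simpa using hk
      refine Finset.sum_eq_zero fun x _ => ?_
      rw [hq (lt_of_le_of_lt j.2 hk), mul_zero])]
    rw [Finset.sum_subtype (univ.filter fun k => m k ≤ b) (p := fun k => m k ≤ b) (by simp)]
    refine Finset.sum_congr rfl fun k _ => ?_
    conv_lhs => rw [← Finset.sum_subset (subset_univ (univ.filter fun x => a ≤ l x)) (fun x _ hx => by
      have hx : l x < a := by simpa using hx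
      rw [hp (lt_of_lt_of_le hx i.2), zero_mul, zero_mul])]
    rw [Finset.sum_subtype (univ.filter fun x => a ≤ l x) (p := fun x => a ≤ l x) (by simp)]
  rw [cornerRank, this]
  exact (rank_mul_le_left _ _).trans (rank_mul_le_right _ _)

lemma cornerRank_eq {μ ν : Fin n → ℕ} (a b : ℕ) {p q : GL (Fin n) F} (g : GL (Fin n) F)
    (hp : p ∈ Cfsg.parabolicGL n F μ) (hq : q ∈ Cfsg.parabolicGL n F ν) :
    cornerRank (Cfsg.compLabel μ) (Cfsg.compLabel ν) a b ((p * g * q : GL (Fin n) F) : Matrix (Fin n) (Fin n) F) =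
      cornerRank (Cfsg.compLabel μ) (Cfsg.compLabel ν) a b (g : Matrix (Fin n) (Fin n) F) := by
  refine le_antisymm (cornerRank_mul_le _ _ _ _ hp hq) ?_
  have h : g = p⁻¹ * (p * g * q) * q⁻¹ := by group
  conv_lhs => rw [h]
  exact cornerRank_mul_le _ _ _ _ (inv_mem hp : p⁻¹ ∈ _) (inv_mem hq : q⁻¹ ∈ _)

lemma cornerRank_permGL (l m : Fin n → ℕ) (a b : ℕ) (σ : Equiv.Perm (Fin n)) :
    cornerRank l m a b (permGL n F σ : Matrix (Fin n) (Fin n) F) =
      (univ.filter fun j => m j ≤ b ∧ a ≤ l (σ j)).card := by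
  classical
  let S := {j : Fin n // m j ≤ b ∧ a ≤ l (σ j)}
  have hS : Fintype.card S = (univ.filter fun j => m j ≤ b ∧ a ≤ l (σ j)).card :=
    Fintype.card_subtype _
  rw [← hS]
  let A : Matrix {i // a ≤ l i} S F := Matrix.of fun i s => if i.1 = σ s.1 then 1 else 0
  let B : Matrix S {j // m j ≤ b} F := Matrix.of fun s j => if j.1 = s.1 then 1 else 0
  set X := (permGL n F σ : Matrix (Fin n) (Fin n) F).submatrix
    (Subtype.val : {i // a ≤ l i} → Fin n) (Subtype.val : {j // m j ≤ b} → Fin n) with hX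
  refine le_antisymm ?_ ?_
  · have : X = A * B := by
      ext i j
      simp only [hX, submatrix_apply, permGL_apply, Matrix.mul_apply, A, B, Matrix.of_apply]
      by_cases h : i.1 = σ j.1
      · rw [if_pos h, Finset.sum_eq_single (⟨j.1, j.2, h ▸ i.2⟩ : S)]
        · simp [h]
        · intro s _ hs
          rw [if_neg (c := (j.1 = s.1)), mul_zero]
          exact fun e => hs (Subtype.ext e.symm)
        · simp
      · rw [if_neg h]
        refine (Finset.sum_eq_zero fun s _ => ?_).symm
        by_cases hs : j.1 = s.1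
        · rw [if_neg (hs ▸ h), zero_mul]
        · rw [if_neg hs, mul_zero]
    rw [cornerRank, ← hX, this]
    exact (rank_mul_le_left _ _).trans (rank_le_card_width _)
  · have : X.submatrix (fun s : S => (⟨σ s.1, s.2.2⟩ : {i // a ≤ l i}))
        (fun s : S => (⟨s.1, s.2.1⟩ : {j // m j ≤ b})) = 1 := by
      ext s t
      by_cases h : s = t
      · subst h; simp [hX, permGL_apply]
      · simp [hX, permGL_apply, h, Subtype.coe_injective.eq_iff]
    rw [cornerRank, ← hX, ← rank_one (R := F) (n := S), ← this]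
    exact rank_submatrix_le _ _ _

lemma card_filter_eq_of_card_filter_le_eq (l m : Fin n → ℕ) (σ τ : Equiv.Perm (Fin n))
    (h : ∀ a b, (univ.filter fun j => m j ≤ b ∧ a ≤ l (σ j)).card =
      (univ.filter fun j => m j ≤ b ∧ a ≤ l (τ j)).card) (a b : ℕ) :
    (univ.filter fun j => m j = b ∧ l (σ j) = a).card =
      (univ.filter fun j => m j = b ∧ l (τ j) = a).card := by
  have hG : ∀ b, (univ.filter fun j => m j ≤ b ∧ l (σ j) = a).card =
      (univ.filter fun j => m j ≤ b ∧ l (τ j) = a).card := by
    intro b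
    have key : ∀ π : Equiv.Perm (Fin n), (univ.filter fun j => m j ≤ b ∧ a ≤ l (π j)).card =
        (univ.filter fun j => m j ≤ b ∧ a + 1 ≤ l (π j)).card +
          (univ.filter fun j => m j ≤ b ∧ l (π j) = a).card := by
      intro π
      rw [← card_union_of_disjoint (disjoint_filter.2 fun j _ h1 h2 => by omega)]
      congr 1; ext j; simp; omega
    have := h a b; have := h (a + 1) b; have := key σ; have := key τ
    omega
  cases b with
  | zero => simpa using hG 0
  | succ b =>
    have key : ∀ π : Equiv.Perm (Fin n), (univ.filter fun j => m j ≤ b + 1 ∧ l (π j) = a).card =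
        (univ.filter fun j => m j ≤ b ∧ l (π j) = a).card +
          (univ.filter fun j => m j = b + 1 ∧ l (π j) = a).card := by
      intro π
      rw [← card_union_of_disjoint (disjoint_filter.2 fun j _ h1 h2 => by omega)]
      congr 1; ext j; simp; omega
    have := hG (b + 1); have := hG b; have := key σ; have := key τ
    omega

lemma young_rel_of_card_eq {μ ν : Fin n → ℕ} (σ τ : Equiv.Perm (Fin n))
    (h : ∀ a b, (univ.filter fun j => Cfsg.compLabel ν j = b ∧ Cfsg.compLabel μ (σ j) = a).card =
      (univ.filter fun j => Cfsg.compLabel ν j = b ∧ Cfsg.compLabel μ (τ j) = a).card) :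
    ∃ y ∈ Cfsg.youngSubgroup μ, ∃ y' ∈ Cfsg.youngSubgroup ν, τ = y * σ * y' := by
  classical
  let e : Equiv.Perm (Fin n) := Equiv.ofFiberEquiv
    (f := fun j => (Cfsg.compLabel ν j, Cfsg.compLabel μ (τ j)))
    (g := fun j => (Cfsg.compLabel ν j, Cfsg.compLabel μ (σ j)))
    fun c => Fintype.equivOfCardEq (by
      rw [Fintype.card_subtype, Fintype.card_subtype]
      simpa [Prod.ext_iff] using (h c.2 c.1).symm)
  have he : ∀ k, (Cfsg.compLabel ν (e k), Cfsg.compLabel μ (σ (e k))) =
      (Cfsg.compLabel ν k, Cfsg.compLabel μ (τ k)) :=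
    fun k => Equiv.ofFiberEquiv_map (g := fun j => (Cfsg.compLabel ν j, Cfsg.compLabel μ (σ j))) _ k
  refine ⟨τ * e⁻¹ * σ⁻¹, fun i => ?_, e, fun k => (Prod.ext_iff.1 (he k)).1, by group⟩
  have := (Prod.ext_iff.1 (he (e⁻¹ (σ⁻¹ i)))).2
  simpa using this.symm

/-- The canonical map from double cosets of Young subgroups to those of parabolic subgroups. -/
def youngToParabolic (F : Type*) [Field F] (μ ν : Fin n → ℕ) :
    DoubleCoset.Quotient (Cfsg.youngSubgroup μ : Set (Equiv.Perm (Fin n))) (Cfsg.youngSubgroup ν) →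
    DoubleCoset.Quotient (Cfsg.parabolicGL n F μ : Set (GL (Fin n) F)) (Cfsg.parabolicGL n F ν) :=
  fun c => Quotient.liftOn' c (fun σ => DoubleCoset.mk _ _ (permGL n F σ)) fun σ τ h => by
    obtain ⟨y, hy, y', hy', rfl⟩ := DoubleCoset.rel_iff.1 h
    exact (DoubleCoset.eq _ _ _ _).2 ⟨_, permGL_mem_parabolicGL hy, _, permGL_mem_parabolicGL hy',
      by rw [map_mul, map_mul]⟩

theorem youngToParabolic_bijective (μ ν : Fin n → ℕ) :
    Function.Bijective (youngToParabolic F μ ν) := by
  constructor
  · intro x y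
    induction x using Quotient.inductionOn' with | _ σ => ?_
    induction y using Quotient.inductionOn' with | _ τ => ?_
    intro h
    obtain ⟨p, hp, q, hq, hpq⟩ := (DoubleCoset.eq _ _ _ _).1 h
    refine (DoubleCoset.eq _ _ σ τ).2 (young_rel_of_card_eq σ τ fun a b => ?_)
    refine card_filter_eq_of_card_filter_le_eq (Cfsg.compLabel μ) (Cfsg.compLabel ν) σ τ ?_ a b
    intro a b
    rw [← cornerRank_permGL (F := F), ← cornerRank_permGL (F := F), hpq, cornerRank_eq a b _ hp hq]
  · intro x
    induction x using Quotient.inductionOn' with | _ g => ?_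
    obtain ⟨b, hb, b', hb', σ, rfl⟩ := exists_bruhat g
    exact ⟨DoubleCoset.mk _ _ σ, (DoubleCoset.eq _ _ _ _).2
      ⟨b, upperTriangularGL_le_parabolicGL μ hb, b', upperTriangularGL_le_parabolicGL ν hb', rfl⟩⟩

theorem card_doubleCoset_parabolic (μ ν : Fin n → ℕ) :
    Nat.card (DoubleCoset.Quotient (Cfsg.parabolicGL n F μ : Set (GL (Fin n) F))
        (Cfsg.parabolicGL n F ν)) =
      Nat.card (DoubleCoset.Quotient (Cfsg.youngSubgroup μ : Set (Equiv.Perm (Fin n)))
        (Cfsg.youngSubgroup ν)) :=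
  (Nat.card_congr (Equiv.ofBijective _ (youngToParabolic_bijective μ ν))).symm

end Rank

/-! ### Double cosets of Young subgroups as matrices with given margins -/

section Young

variable {n : ℕ}

theorem card_doubleCoset_young {μ ν : Fin n → ℕ} (hμ : ∑ i, μ i = n) (hν : ∑ i, ν i = n) :
    Nat.card (DoubleCoset.Quotient (Cfsg.youngSubgroup μ : Set (Equiv.Perm (Fin n)))
        (Cfsg.youngSubgroup ν)) = marginCount μ ν := by
  classical
  let cnt : Equiv.Perm (Fin n) → Fin n → Fin n → ℕ := fun σ a b =>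
    (univ.filter fun j => label hν j = b ∧ label hμ (σ j) = a).card
  have hmargin : ∀ σ, (∀ a, ∑ b, cnt σ a b = μ a) ∧ ∀ b, ∑ a, cnt σ a b = ν b := by
    intro σ
    constructor
    · intro a
      have h1 : (univ.filter fun j => label hμ (σ j) = a).card = μ a := by
        rw [← card_filter_label_eq hμ a]
        exact card_equiv σ (by simp)
      rw [← h1, card_eq_sum_card_fiberwise (f := label hν) (t := univ) (fun _ _ => mem_univ _)]
      exact sum_congr rfl fun b _ => congr_arg card (by ext; simp [and_comm])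
    · intro b
      rw [← card_filter_label_eq hν b,
        card_eq_sum_card_fiberwise (f := fun j => label hμ (σ j)) (t := univ) (fun _ _ => mem_univ _)]
      exact sum_congr rfl fun b _ => congr_arg card (by ext; simp)
  have hwd : ∀ σ τ, DoubleCoset.setoid (Cfsg.youngSubgroup μ : Set (Equiv.Perm (Fin n)))
      (Cfsg.youngSubgroup ν) σ τ → cnt σ = cnt τ := by
    intro σ τ h
    obtain ⟨y, hy, y', hy', rfl⟩ := DoubleCoset.rel_iff.1 h
    funext a b
    refine (card_equiv y' fun j => ?_).symm
    have e1 : label hν (y' j) = label hν j := Fin.ext (hy' j)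
    have e2 : label hμ (y (σ (y' j))) = label hμ (σ (y' j)) := Fin.ext (hy _)
    simp only [mem_filter, mem_univ, true_and, e1]
    rw [show label hμ ((y * σ * y') j) = label hμ (σ (y' j)) from e2]
  let f : DoubleCoset.Quotient (Cfsg.youngSubgroup μ : Set (Equiv.Perm (Fin n)))
      (Cfsg.youngSubgroup ν) →
      {N : Fin n → Fin n → ℕ // (∀ a, ∑ b, N a b = μ a) ∧ ∀ b, ∑ a, N a b = ν b} :=
    fun c => Quotient.liftOn' c (fun σ => ⟨cnt σ, hmargin σ⟩) fun σ τ h => Subtype.ext (hwd σ τ h)
  refine Nat.card_congr (Equiv.ofBijective f ⟨?_, ?_⟩)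
  · intro x y
    induction x using Quotient.inductionOn' with | _ σ => ?_
    induction y using Quotient.inductionOn' with | _ τ => ?_
    intro h
    have h : cnt σ = cnt τ := congr_arg Subtype.val h
    refine (DoubleCoset.eq _ _ σ τ).2 (young_rel_of_card_eq σ τ fun a b => ?_)
    by_cases ha : a < n
    · by_cases hb : b < n
      · simpa [cnt, label, Fin.ext_iff] using congr_fun (congr_fun h ⟨a, ha⟩) ⟨b, hb⟩
      · have : ∀ j, Cfsg.compLabel ν j ≠ b := fun j e => hb (e ▸ compLabel_lt hν j)
        simp [this]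
    · have : ∀ j, Cfsg.compLabel μ j ≠ a := fun j e => ha (e ▸ compLabel_lt hμ j)
      simp [this]
  · rintro ⟨N, hNμ, hNν⟩
    let T := Σ ab : Fin n × Fin n, Fin (N ab.1 ab.2)
    have hT1 : ∀ a, Fintype.card {t : T // t.1.1 = a} = Fintype.card {i // label hμ i = a} := by
      intro a
      rw [Fintype.card_subtype (fun i => label hμ i = a), card_filter_label_eq hμ a, ← hNμ a]
      rw [Fintype.card_congr (β := Σ b, Fin (N a b))
        { toFun := fun t => ⟨t.1.1.2, Fin.cast (by rw [t.2]) t.1.2⟩
          invFun := fun t => ⟨⟨(a, t.1), t.2⟩, rfl⟩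
          left_inv := by rintro ⟨⟨⟨a', b⟩, k⟩, rfl⟩; rfl
          right_inv := fun t => rfl }]
      simp
    have hT2 : ∀ b, Fintype.card {t : T // t.1.2 = b} = Fintype.card {i // label hν i = b} := by
      intro b
      rw [Fintype.card_subtype (fun i => label hν i = b), card_filter_label_eq hν b, ← hNν b]
      rw [Fintype.card_congr (β := Σ a, Fin (N a b))
        { toFun := fun t => ⟨t.1.1.1, Fin.cast (by rw [t.2]) t.1.2⟩
          invFun := fun t => ⟨⟨(t.1, b), t.2⟩, rfl⟩
          left_inv := by rintro ⟨⟨⟨a, b'⟩, k⟩, rfl⟩; rfl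
          right_inv := fun t => rfl }]
      simp
    let e1 : T ≃ Fin n := Equiv.ofFiberEquiv (f := fun t : T => t.1.1) (g := label hμ)
      fun a => Fintype.equivOfCardEq (hT1 a)
    let e2 : T ≃ Fin n := Equiv.ofFiberEquiv (f := fun t : T => t.1.2) (g := label hν)
      fun b => Fintype.equivOfCardEq (hT2 b)
    refine ⟨DoubleCoset.mk _ _ (e2.symm.trans e1), Subtype.ext (funext fun a => funext fun b => ?_)⟩
    change cnt (e2.symm.trans e1) a b = N a b
    have h1 : ∀ t, label hμ (e1 t) = t.1.1 := fun t => Equiv.ofFiberEquiv_map (g := label hμ) _ t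
    have h2 : ∀ t, label hν (e2 t) = t.1.2 := fun t => Equiv.ofFiberEquiv_map (g := label hν) _ t
    calc cnt (e2.symm.trans e1) a b = (univ.filter fun t : T => t.1 = (a, b)).card := by
          refine card_equiv e2.symm fun j => ?_
          have := h1 (e2.symm j); have := h2 (e2.symm j)
          simp_all [Prod.ext_iff, and_comm]
      _ = N a b := by
          rw [← Fintype.card_subtype, Fintype.card_congr (Equiv.sigmaSubtype (a, b))]
          simp

end Young

/-! ### Permutation characters -/

section Burnside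

variable {G : Type*} [Group G]

lemma orbit_pair_eq {H K : Subgroup G} {g g' : G} :
    ((QuotientGroup.mk 1 : G ⧸ H), (QuotientGroup.mk g : G ⧸ K)) ∈
        MulAction.orbit G ((QuotientGroup.mk 1 : G ⧸ H), (QuotientGroup.mk g' : G ⧸ K)) ↔
      ∃ h ∈ H, ∃ k ∈ K, g = h * g' * k := by
  rw [MulAction.mem_orbit_iff]
  constructor
  · rintro ⟨x, hx⟩
    simp only [Prod.smul_mk, MulAction.Quotient.smul_mk, smul_eq_mul, mul_one, Prod.mk.injEq,
      QuotientGroup.eq] at hx
    exact ⟨x, by simpa using hx.1, (x * g')⁻¹ * g, hx.2, by group⟩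
  · rintro ⟨h, hh, k, hk, rfl⟩
    refine ⟨h, ?_⟩
    simp [Prod.smul_mk, MulAction.Quotient.smul_mk, QuotientGroup.eq, hh, hk, mul_assoc]

/-- Orbits on pairs of cosets correspond to double cosets. -/
theorem card_orbits_pair (H K : Subgroup G) :
    Nat.card (MulAction.orbitRel.Quotient G ((G ⧸ H) × (G ⧸ K))) =
      Nat.card (DoubleCoset.Quotient (H : Set G) K) := by
  let f : DoubleCoset.Quotient (H : Set G) K → MulAction.orbitRel.Quotient G ((G ⧸ H) × (G ⧸ K)) :=
    fun c => Quotient.liftOn' c
      (fun g => Quotient.mk'' ((QuotientGroup.mk 1 : G ⧸ H), (QuotientGroup.mk g : G ⧸ K))) fun g g' h => by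
        obtain ⟨x, hx, k, hk, rfl⟩ := DoubleCoset.rel_iff.1 h
        exact (Quotient.sound' (orbit_pair_eq.2 ⟨x, hx, k, hk, rfl⟩)).symm
  refine (Nat.card_congr (Equiv.ofBijective f ⟨?_, ?_⟩)).symm
  · intro x y
    induction x using Quotient.inductionOn' with | _ g => ?_
    induction y using Quotient.inductionOn' with | _ g' => ?_
    intro h
    obtain ⟨x, hx, k, hk, e⟩ := orbit_pair_eq.1 (Quotient.exact' h)
    exact (DoubleCoset.eq _ _ g g').2 ⟨x⁻¹, inv_mem hx, k⁻¹, inv_mem hk, by rw [e]; group⟩
  · intro c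
    induction c using Quotient.inductionOn' with | _ p => ?_
    obtain ⟨a, b⟩ := p
    induction a using QuotientGroup.induction_on with | _ a => ?_
    induction b using QuotientGroup.induction_on with | _ b => ?_
    refine ⟨DoubleCoset.mk _ _ (a⁻¹ * b), Quotient.sound' ⟨a⁻¹, ?_⟩⟩
    simp [Prod.smul_mk, MulAction.Quotient.smul_mk]

/-- The product of two permutation characters, summed over the group. -/
theorem sum_fixedPointCharacter_mul [Fintype G] (H K : Subgroup G) :
    ∑ g : G, Cfsg.fixedPointCharacter H g * Cfsg.fixedPointCharacter K g =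
      (Nat.card G : ℂ) * (Nat.card (DoubleCoset.Quotient (H : Set G) K) : ℂ) := by
  classical
  have hb := MulAction.sum_card_fixedBy_eq_card_orbits_mul_card_group G ((G ⧸ H) × (G ⧸ K))
  have hg : ∀ g : G, Fintype.card (MulAction.fixedBy ((G ⧸ H) × (G ⧸ K)) g) =
      Nat.card (MulAction.fixedBy (G ⧸ H) g) * Nat.card (MulAction.fixedBy (G ⧸ K) g) := by
    intro g
    rw [← Nat.card_eq_fintype_card, ← Nat.card_prod]
    exact Nat.card_congr
      { toFun := fun x => (⟨x.1.1, congr_arg Prod.fst x.2⟩, ⟨x.1.2, congr_arg Prod.snd x.2⟩)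
        invFun := fun x => ⟨(x.1.1, x.2.1), Prod.ext x.1.2 x.2.2⟩
        left_inv := fun x => rfl
        right_inv := fun x => rfl }
  simp only [hg] at hb
  simp only [Cfsg.fixedPointCharacter, ← Nat.cast_mul, ← Nat.cast_sum]
  rw [hb, ← Nat.card_eq_fintype_card, ← Nat.card_eq_fintype_card, card_orbits_pair, mul_comm]

end Burnside

end CfsgLib.FlagChar
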