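/-
Orders and indices of the standard parabolic subgroups of GL_n over a finite field, and the determinant giving the
degree of the alternating sum of permutation characters on flags.
-/
import Cfsg.Agent.FlagChar.DoubleCosets
import Cfsg.Agent.Linear.Basic

set_option autoImplicit false
set_option linter.unusedSectionVars false

namespace CfsgLib.FlagChar

open Finset Matrix
open scoped MatrixGroups

/-- The q-integer `1 + q + ⋯ + q^(r-1)`. -/
def qNat (q r : ℕ) : ℕ := ∑ l ∈ range r, q ^ l

/-- The q-factorial `qNat q 1 * ⋯ * qNat q r`. -/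
def qFact (q r : ℕ) : ℕ := ∏ j ∈ range r, qNat q (j + 1)

lemma qNat_mul (q r : ℕ) (hq : 1 ≤ q) : qNat q r * (q - 1) = q ^ r - 1 := by
  obtain ⟨p, rfl⟩ := Nat.exists_eq_add_of_le' hq
  rw [qNat, Nat.add_sub_cancel, geom_sum_mul_add p r |>.symm]
  simp

lemma qNat_pos {q r : ℕ} (hr : 0 < r) : 0 < qNat q r :=
  Finset.sum_pos' (fun _ _ => Nat.zero_le _) ⟨0, mem_range.2 hr, by simp⟩

lemma qFact_pos (q r : ℕ) : 0 < qFact q r := prod_pos fun _ _ => qNat_pos (Nat.succ_pos _)

section Order

variable {n : ℕ} {F : Type*} [Field F]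

/-- A block upper triangular invertible matrix is its diagonal blocks and the entries above them. -/
noncomputable def blockTriangularEquiv (lab : Fin n → Fin n) :
    {g : GL (Fin n) F // (g : Matrix (Fin n) (Fin n) F).BlockTriangular lab} ≃
      ((a : Fin n) → GL {i // lab i = a} F) × ({p : Fin n × Fin n // lab p.1 < lab p.2} → F) where
  toFun g := (fun a => .mk'' ((g.1 : Matrix (Fin n) (Fin n) F).toSquareBlock lab a) (by
      classical
      have h := (Matrix.GeneralLinearGroup.det_ne_zero g.1)
      rw [g.2.det_fintype, prod_ne_zero_iff] at h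
      exact isUnit_iff_ne_zero.2 (h a (mem_univ a))),
    fun p => (g.1 : Matrix (Fin n) (Fin n) F) p.1.1 p.1.2)
  invFun d :=
    let M : Matrix (Fin n) (Fin n) F := Matrix.of fun i j =>
      if h : lab i = lab j then ((d.1 (lab j) : GL {x // lab x = lab j} F) : Matrix {x // lab x = lab j} {x // lab x = lab j} F) ⟨i, h⟩ ⟨j, rfl⟩
      else if h' : lab i < lab j then d.2 ⟨(i, j), h'⟩ else 0
    have hM : M.BlockTriangular lab := fun i j hij => by simp [M, hij.ne', hij.not_gt]
    have hblock : ∀ a, M.toSquareBlock lab a = d.1 a := fun a => by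
      ext ⟨i, hi⟩ ⟨j, hj⟩
      subst hj
      simp [M, Matrix.toSquareBlock_def, hi]
    ⟨.mk'' M (by
      classical
      rw [hM.det_fintype, isUnit_iff_ne_zero, prod_ne_zero_iff]
      intro a _
      rw [hblock]
      exact Matrix.GeneralLinearGroup.det_ne_zero _), hM⟩
  left_inv g := by
    refine Subtype.ext (Units.ext ?_)
    ext i j
    change (dite _ _ _) = _
    by_cases h : lab i = lab j
    · rw [dif_pos h]; rfl
    · rw [dif_neg h]
      by_cases h' : lab i < lab j
      · rw [dif_pos h']
      · rw [dif_neg h']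
        exact (g.2 (lt_of_le_of_ne (not_lt.1 h') (Ne.symm h))).symm
  right_inv d := by
    refine Prod.ext (funext fun a => Units.ext ?_) (funext fun p => ?_)
    · ext ⟨i, hi⟩ ⟨j, hj⟩
      subst hj
      change (dite _ _ _) = _
      rw [dif_pos hi]
    · change (dite _ _ _) = _
      rw [dif_neg p.2.ne, dif_pos p.2]

variable [Fintype F]

lemma card_GL_eq (m : Type*) [Fintype m] [DecidableEq m] :
    Nat.card (GL m F) = Fintype.card F ^ (Fintype.card m * (Fintype.card m - 1) / 2) *
      (qFact (Fintype.card F) (Fintype.card m) * (Fintype.card F - 1) ^ Fintype.card m) := by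
  rw [CfsgLib.Linear.card_GL, CfsgLib.Linear.prod_pow_sub_pow]
  congr 1
  have h := Finset.prod_mul_pow_card (s := range (Fintype.card m)) (b := Fintype.card F - 1)
    (f := fun j => qNat (Fintype.card F) (j + 1))
  rw [Finset.card_range] at h
  rw [qFact, h]
  exact Finset.prod_congr rfl fun i _ => (qNat_mul _ _ Fintype.card_pos).symm

lemma sum_tri_add_card_upper (lab : Fin n → Fin n) :
    (∑ a, (univ.filter fun i => lab i = a).card * ((univ.filter fun i => lab i = a).card - 1) / 2) +
      Fintype.card {p : Fin n × Fin n // lab p.1 < lab p.2} = n * (n - 1) / 2 := by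
  classical
  have hsq : ∀ m : ℕ, 2 * (m * (m - 1) / 2) + m = m * m := by
    intro m
    rw [Nat.two_mul_div_two_of_even (Nat.even_mul_pred_self m)]
    cases m with
    | zero => rfl
    | succ m => simp [Nat.mul_succ]
  have hcard : ∑ a, (univ.filter fun i => lab i = a).card = n := by
    rw [← card_eq_sum_card_fiberwise (t := univ) fun _ _ => mem_univ _, card_univ, Fintype.card_fin]
  have hsw : (univ.filter fun p : Fin n × Fin n => lab p.2 < lab p.1).card =
      (univ.filter fun p : Fin n × Fin n => lab p.1 < lab p.2).card :=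
    card_equiv (Equiv.prodComm _ _) (by simp)
  have heq : (univ.filter fun p : Fin n × Fin n => lab p.1 = lab p.2).card =
      ∑ a, (univ.filter fun i => lab i = a).card * (univ.filter fun i => lab i = a).card := by
    rw [card_eq_sum_card_fiberwise (f := fun p => lab p.1) (t := univ) (fun _ _ => mem_univ _)]
    refine sum_congr rfl fun a _ => ?_
    rw [← card_product]
    congr 1
    ext ⟨i, j⟩
    simp
    grind
  have hsplit : (univ.filter fun p : Fin n × Fin n => lab p.1 = lab p.2).card +
      (univ.filter fun p : Fin n × Fin n => lab p.1 < lab p.2).card +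
      (univ.filter fun p : Fin n × Fin n => lab p.2 < lab p.1).card = n * n := by
    rw [← card_union_of_disjoint (disjoint_filter.2 fun p _ h1 h2 => h2.ne h1),
      ← card_union_of_disjoint (by
        rw [← filter_or]
        exact disjoint_filter.2 fun p _ h1 h2 => h1.elim (fun h => h2.ne h.symm) (lt_asymm h2))]
    rw [← filter_or, ← filter_or, filter_true_of_mem, card_univ, Fintype.card_prod,
      Fintype.card_fin]
    intro p _
    rcases lt_trichotomy (lab p.1) (lab p.2) with h | h | h <;> tauto
  rw [Fintype.card_subtype]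
  have h2 : 2 * (∑ a, (univ.filter fun i => lab i = a).card *
      ((univ.filter fun i => lab i = a).card - 1) / 2) + n =
      ∑ a, (univ.filter fun i => lab i = a).card * (univ.filter fun i => lab i = a).card := by
    conv_lhs => rw [mul_sum]; arg 2; rw [← hcard]
    rw [← sum_add_distrib]
    exact sum_congr rfl fun a _ => hsq _
  have := hsq n
  linarith

/-- The index of a standard parabolic subgroup: the number of flags of its type. -/
theorem index_parabolicGL {μ : Fin n → ℕ} (hμ : ∑ i, μ i = n) :
    Nat.card (GL (Fin n) F ⧸ Cfsg.parabolicGL n F μ) * ∏ i, qFact (Fintype.card F) (μ i) =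
      qFact (Fintype.card F) n := by
  classical
  have hbt : ∀ g : GL (Fin n) F, g ∈ Cfsg.parabolicGL n F μ ↔
      (g : Matrix (Fin n) (Fin n) F).BlockTriangular (label hμ) := fun g => Iff.rfl
  set q := Fintype.card F
  have hc : ∀ a, Fintype.card {i // label hμ i = a} = μ a := fun a => by
    rw [Fintype.card_subtype, card_filter_label_eq]
  have hP : Nat.card (Cfsg.parabolicGL n F μ) =
      q ^ (n * (n - 1) / 2) * ((∏ a, qFact q (μ a)) * (q - 1) ^ n) := by
    rw [Nat.card_congr ((Equiv.subtypeEquivRight hbt).trans (blockTriangularEquiv (label hμ))),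
      Nat.card_prod, Nat.card_pi, Nat.card_fun, Nat.card_eq_fintype_card (α := F),
      Nat.card_eq_fintype_card (α := {p : Fin n × Fin n // label hμ p.1 < label hμ p.2}),
      ← sum_tri_add_card_upper (label hμ)]
    simp only [card_GL_eq, hc, card_filter_label_eq, prod_mul_distrib, prod_pow_eq_pow_sum, hμ]
    ring
  have h := Subgroup.card_mul_index (Cfsg.parabolicGL n F μ)
  rw [card_GL_eq (Fin n), Fintype.card_fin, hP, Subgroup.index_eq_card] at h
  have hq : 0 < q - 1 := Nat.sub_pos_of_lt Fintype.one_lt_card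
  have hpos : 0 < q ^ (n * (n - 1) / 2) * (q - 1) ^ n :=
    mul_pos (pow_pos Fintype.card_pos _) (pow_pos hq _)
  refine Nat.eq_of_mul_eq_mul_left hpos ?_
  linarith

end Order

/-! ### The determinant of q-falling factorials -/

section Degree

open Polynomial

/-- `qNat q λ * qNat q (λ-1) * ⋯` with `k` factors. -/
def qFall (q l k : ℕ) : ℕ := ∏ i ∈ range k, qNat q (l - i)

lemma qFall_mul_qFact (q l k : ℕ) (hk : k ≤ l) : qFall q l k * qFact q (l - k) = qFact q l := by
  induction k with
  | zero => simp [qFall]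
  | succ k ih =>
    rw [qFall, prod_range_succ, mul_assoc, ← ih (by omega)]
    congr 1
    obtain ⟨t, ht⟩ := Nat.exists_eq_add_of_lt (show 0 < l - k by omega)
    rw [show l - (k + 1) = t by omega, show l - k = t + 1 by omega, qFact, qFact, prod_range_succ,
      mul_comm]

lemma qFall_eq_zero (q : ℕ) {l k : ℕ} (h : l < k) : qFall q l k = 0 :=
  prod_eq_zero (mem_range.2 h) (by simp [qNat])

lemma qNat_add (q a b : ℕ) : qNat q (a + b) = qNat q a + q ^ a * qNat q b := by
  simp only [qNat, sum_range_add, pow_add, mul_sum]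

lemma pow_mul_qFall (q l k : ℕ) :
    (q : ℂ) ^ (∑ i ∈ range k, i) * (qFall q l k : ℂ) =
      ∏ i ∈ range k, ((qNat q l : ℂ) - (qNat q i : ℂ)) := by
  by_cases h : k ≤ l
  · rw [qFall, Nat.cast_prod, ← prod_pow_eq_pow_sum, ← prod_mul_distrib]
    refine prod_congr rfl fun i hi => ?_
    have hi := mem_range.1 hi
    have e := qNat_add q i (l - i)
    rw [Nat.add_sub_cancel' (by omega)] at e
    rw [e]; push_cast; ring
  · rw [qFall_eq_zero q (not_le.1 h), Nat.cast_zero, mul_zero]
    exact (prod_eq_zero (mem_range.2 (not_le.1 h)) (sub_self _)).symm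

lemma sum_sum_range (n : ℕ) :
    ∑ k ∈ range n, ∑ i ∈ range k, i = n * (n - 1) * (n - 2) / 6 := by
  have h : ∀ n : ℕ, 6 * ∑ k ∈ range (n + 2), ∑ i ∈ range k, i = (n + 2) * (n + 1) * n := by
    intro n
    induction n with
    | zero => decide
    | succ n ih =>
      rw [sum_range_succ, Nat.mul_add, ih]
      have h := sum_range_id_mul_two (n + 2)
      simp only [show n + 2 - 1 = n + 1 by omega] at h
      linarith
  match n with
  | 0 => simp
  | 1 => simp
  | n + 2 =>
    rw [show n + 2 - 1 = n + 1 by omega, show n + 2 - 2 = n by omega, ← h n, Nat.mul_div_cancel_left]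
    norm_num

theorem sum_sign_qFall (q : ℕ) {n : ℕ} (l : Fin n → ℕ) :
    (q : ℂ) ^ (n * (n - 1) * (n - 2) / 6) *
      ∑ κ : Equiv.Perm (Fin n), ((Equiv.Perm.sign κ : ℤ) : ℂ) * ∏ i, (qFall q (l i) (κ i) : ℂ) =
      ∏ i : Fin n, ∏ j ∈ Ioi i, ((qNat q (l j) : ℂ) - (qNat q (l i) : ℂ)) := by
  let p : Fin n → ℂ[X] := fun k => ∏ i ∈ range (k : ℕ), (X - C (qNat q i : ℂ))
  have hev : (Matrix.of fun i j => (p j).eval (qNat q (l i) : ℂ)) =
      Matrix.of fun i j : Fin n => (q : ℂ) ^ (∑ t ∈ range (j : ℕ), t) * (qFall q (l i) j : ℂ) := by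
    ext i j
    simp [p, eval_prod, pow_mul_qFall]
  rw [← det_vandermonde, det_eval_matrixOfPolynomials_eq_det_vandermonde (fun i => (qNat q (l i) : ℂ)) p
    (fun i => by
      simp only [p]
      rw [natDegree_prod_of_monic _ _ fun a _ => monic_X_sub_C _]
      simp only [natDegree_X_sub_C, sum_const, card_range, smul_eq_mul, mul_one])
    (fun i => monic_prod_of_monic _ _ fun a _ => monic_X_sub_C _), hev, ← Matrix.det_transpose,
    Matrix.det_apply', mul_sum]
  refine sum_congr rfl fun κ _ => ?_
  simp only [transpose_apply, Matrix.of_apply, prod_mul_distrib, prod_pow_eq_pow_sum]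
  rw [Equiv.sum_comp κ (fun j : Fin n => ∑ t ∈ range (j : ℕ), t),
    Fin.sum_univ_eq_sum_range (fun k => ∑ t ∈ range k, t), sum_sum_range]
  ring

end Degree

end CfsgLib.FlagChar
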