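/-
The alternating sums of permutation characters on flags are orthonormal irreducible characters of GL_n.
-/
import Cfsg.Agent.FlagChar.Index
import Cfsg.Agent.Characters.Orthogonality

set_option autoImplicit false
set_option linter.unusedSectionVars false

namespace CfsgLib.FlagChar

open Finset
open scoped MatrixGroups ComplexConjugate

section General

variable {G : Type*} [Group G]

/-- A permutation character is a character. -/
theorem isCharacter_fixedPointCharacter [Finite G] (H : Subgroup G) :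
    Cfsg.IsCharacter G (Cfsg.fixedPointCharacter H) := by
  classical
  have : Fintype (G ⧸ H) := Fintype.ofFinite _
  let ρ : Representation ℂ G ((G ⧸ H) → ℂ) :=
    { toFun := fun g => LinearMap.funLeft ℂ ℂ fun x => g⁻¹ • x
      map_one' := by ext f x; simp [LinearMap.funLeft]
      map_mul' := fun a b => by ext f x; simp [LinearMap.funLeft, mul_smul] }
  have h : ρ.character = Cfsg.fixedPointCharacter H := by
    funext g
    rw [Representation.character, LinearMap.trace_eq_matrix_trace ℂ (Pi.basisFun ℂ (G ⧸ H))]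
    simp only [Matrix.trace, Matrix.diag, LinearMap.toMatrix_apply, Pi.basisFun_apply, Pi.basisFun_repr]
    change (∑ x, (Pi.single x (1 : ℂ) : (G ⧸ H) → ℂ) (g⁻¹ • x)) = _
    simp only [Pi.single_apply, Finset.sum_boole]
    rw [Cfsg.fixedPointCharacter, ← Nat.card_eq_finsetCard]
    congr 1
    exact Nat.card_congr (Equiv.subtypeEquivRight fun x => by
      simp [MulAction.mem_fixedBy, eq_inv_smul_iff, eq_comm])
  exact h ▸ CfsgLib.Characters.isCharacter_character ρ

theorem fixedPointCharacter_one [Finite G] (H : Subgroup G) :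
    Cfsg.fixedPointCharacter H 1 = (Nat.card (G ⧸ H) : ℂ) := by
  simp [Cfsg.fixedPointCharacter, MulAction.fixedBy, Nat.card_congr (Equiv.Set.univ _)]

theorem classInner_fixedPointCharacter [Fintype G] (H K : Subgroup G) :
    Cfsg.classInner (Cfsg.fixedPointCharacter H) (Cfsg.fixedPointCharacter K) =
      (Nat.card (DoubleCoset.Quotient (H : Set G) K) : ℂ) := by
  have hconj : ∀ g : G, conj (Cfsg.fixedPointCharacter K g) = Cfsg.fixedPointCharacter K g :=
    fun g => by simp [Cfsg.fixedPointCharacter]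
  simp only [Cfsg.classInner, hconj, sum_fixedPointCharacter_mul]
  rw [← mul_assoc, inv_mul_cancel₀ CfsgLib.Characters.natCard_ne_zero, one_mul]

/-- A generalized character of norm one and positive degree is irreducible. -/
theorem isIrr_of_norm_one [Fintype G] {ι : Type*} (s : Finset ι) (c : ι → ℤ) (f : ι → G → ℂ)
    (hf : ∀ i ∈ s, Cfsg.IsCharacter G (f i))
    (hnorm : Cfsg.classInner (∑ i ∈ s, (c i : ℂ) • f i) (∑ i ∈ s, (c i : ℂ) • f i) = 1)
    (hpos : 0 < ((∑ i ∈ s, (c i : ℂ) • f i) 1).re) :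
    Cfsg.IsIrrCharacter G (∑ i ∈ s, (c i : ℂ) • f i) := by
  classical
  set θ := ∑ i ∈ s, (c i : ℂ) • f i with hθ
  have hcf : Cfsg.IsClassFunction G θ := fun g h => by
    simp only [hθ, Finset.sum_apply, Pi.smul_apply]
    exact Finset.sum_congr rfl fun i hi => by
      rw [CfsgLib.Characters.isClassFunction_of_isCharacter (hf i hi) g h]
  have hint : ∀ χ : Cfsg.IrrCharacter G, ∃ z : ℤ, Cfsg.classInner θ (χ : G → ℂ) = z := by
    intro χ
    have h : ∀ i ∈ s, ∃ z : ℤ, Cfsg.classInner (f i) (χ : G → ℂ) = z := fun i hi => by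
      obtain ⟨m, hm⟩ := CfsgLib.Characters.classInner_character_irr (hf i hi) χ.2
      exact ⟨m, by simp [hm]⟩
    choose z hz using h
    refine ⟨∑ i ∈ s.attach, c i.1 * z i.1 i.2, ?_⟩
    rw [hθ, CfsgLib.Characters.classInner_sum_left, ← Finset.sum_attach]
    push_cast
    exact Finset.sum_congr rfl fun i _ => by rw [CfsgLib.Characters.classInner_smul_left, hz i.1 i.2]
  choose z hz using hint
  have hsq : ∑ χ, z χ * z χ = 1 := by
    have := CfsgLib.Characters.classInner_eq_sum hcf θ
    rw [hnorm] at this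
    simp only [hz, map_intCast] at this
    exact_mod_cast this.symm
  obtain ⟨χ₀, h₀⟩ : ∃ χ, z χ ≠ 0 := by
    by_contra h
    push Not at h
    simp [h] at hsq
  rw [← Finset.add_sum_erase _ _ (mem_univ χ₀)] at hsq
  have hnn : 0 ≤ ∑ χ ∈ univ.erase χ₀, z χ * z χ := Finset.sum_nonneg fun _ _ => mul_self_nonneg _
  have h1 : 1 ≤ z χ₀ * z χ₀ := Int.add_one_le_iff.2 (mul_self_pos.2 h₀)
  have hrest : ∀ χ, χ ≠ χ₀ → z χ = 0 := fun χ hχ => mul_self_eq_zero.1
    ((Finset.sum_eq_zero_iff_of_nonneg (s := univ.erase χ₀) fun _ _ => mul_self_nonneg _).1 (by omega) χ (by simp [hχ]))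
  have hθeq : θ = (z χ₀ : ℂ) • (χ₀ : G → ℂ) := by
    rw [CfsgLib.Characters.classFunction_expansion hcf, Finset.sum_eq_single χ₀]
    · rw [hz]
    · intro χ _ hχ; simp [hz, hrest χ hχ]
    · simp
  have hz1 : z χ₀ = 1 := by
    have hsq1 : z χ₀ * z χ₀ = 1 := by omega
    rcases mul_self_eq_one_iff.1 hsq1 with h | h
    · exact h
    · exfalso
      obtain ⟨m, -, hm⟩ := CfsgLib.Characters.exists_degree_pos χ₀.2
      rw [hθeq] at hpos
      simp [h, hm] at hpos
      linarith [(Nat.cast_nonneg m : (0 : ℝ) ≤ m)]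
  rw [hθeq, hz1]
  simpa using χ₀.2

end General

section GLn

variable {n : ℕ} {F : Type*} [Field F]

/-- The composition with parts `ν i + i - κ i`. -/
def kappaComp (ν : Fin n → ℕ) (κ : Equiv.Perm (Fin n)) : Fin n → ℕ := fun i => ν i + i.val - (κ i).val

lemma sum_kappaComp {ν : Fin n → ℕ} (hν : ∑ i, ν i = n) {κ : Equiv.Perm (Fin n)}
    (h : ∀ i, (κ i).val ≤ ν i + i.val) : ∑ i, kappaComp ν κ i = n := by
  have : ∑ i, (kappaComp ν κ i + (κ i).val) = ∑ i, (ν i + i.val) :=
    sum_congr rfl fun i _ => by simp only [kappaComp]; have := h i; omega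
  rw [sum_add_distrib, sum_add_distrib, Equiv.sum_comp κ (fun i : Fin n => i.val), hν] at this
  omega

lemma strictMono_shift {ν : Fin n → ℕ} (hν : Monotone ν) : StrictMono fun i => ν i + i.val :=
  fun i j h => by have := hν h.le; have : i.val < j.val := h; simp only; omega

/-- The permutations occurring in the alternating sum. -/
def validPerms (ν : Fin n → ℕ) : Finset (Equiv.Perm (Fin n)) :=
  univ.filter fun κ => ∀ i, (κ i).val ≤ ν i + i.val

lemma unipotentCharacterGL_eq (ν : Fin n → ℕ) :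
    Cfsg.unipotentCharacterGL n F ν = ∑ κ ∈ validPerms ν,
      ((Equiv.Perm.sign κ : ℤ) : ℂ) • Cfsg.fixedPointCharacter (Cfsg.parabolicGL n F (kappaComp ν κ)) := by
  funext g
  rw [validPerms, Finset.sum_apply, Finset.sum_filter]
  rfl

variable [Fintype F]

theorem classInner_unipotent [DecidableEq F] {ν ν' : Fin n → ℕ} (hν : Monotone ν) (hs : ∑ i, ν i = n)
    (hν' : Monotone ν') (hs' : ∑ i, ν' i = n) :
    Cfsg.classInner (Cfsg.unipotentCharacterGL n F ν) (Cfsg.unipotentCharacterGL n F ν') =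
      if ν = ν' then 1 else 0 := by
  classical
  have hc : ∀ κ ∈ validPerms ν, ∀ κ' ∈ validPerms ν',
      Cfsg.classInner (((Equiv.Perm.sign κ : ℤ) : ℂ) • Cfsg.fixedPointCharacter (Cfsg.parabolicGL n F (kappaComp ν κ)))
        (((Equiv.Perm.sign κ' : ℤ) : ℂ) • Cfsg.fixedPointCharacter (Cfsg.parabolicGL n F (kappaComp ν' κ'))) =
      ((((Equiv.Perm.sign κ : ℤ) * (Equiv.Perm.sign κ' : ℤ)) *
        (marginCount (kappaComp ν κ) (kappaComp ν' κ') : ℤ) : ℤ) : ℂ) := by
    intro κ hκ κ' hκ'
    simp only [validPerms, mem_filter, mem_univ, true_and] at hκ hκ'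
    rw [CfsgLib.Characters.classInner_smul_left, CfsgLib.Characters.classInner_smul_right,
      classInner_fixedPointCharacter, card_doubleCoset_parabolic,
      card_doubleCoset_young (sum_kappaComp hs hκ) (sum_kappaComp hs' hκ'), map_intCast]
    push_cast
    ring
  rw [unipotentCharacterGL_eq, unipotentCharacterGL_eq, CfsgLib.Characters.classInner_sum_left]
  simp only [CfsgLib.Characters.classInner_sum_right]
  rw [Finset.sum_congr rfl fun κ hκ => Finset.sum_congr rfl fun κ' hκ' => hc κ hκ κ' hκ']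
  have key := sum_sign_mul_marginCount _ _ (strictMono_shift hν) (strictMono_shift hν')
  have : (fun i => ν i + i.val) = (fun i => ν' i + i.val) ↔ ν = ν' := by
    simp [funext_iff]
  simp only [this] at key
  rw [validPerms, validPerms, sum_filter]
  simp only [sum_filter, ite_and, ← ite_sum_zero] at key ⊢
  have := congr_arg (Int.cast : ℤ → ℂ) key
  push_cast [kappaComp] at this ⊢
  exact this

/-- The product formula for the degrees. -/
theorem unipotentCharacterGL_one (q : ℕ) (hq : Fintype.card F = q) (ν : Fin n → ℕ)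
    (hs : ∑ i, ν i = n) :
    Cfsg.unipotentCharacterGL n F ν 1 * (q : ℂ) ^ (n * (n - 1) * (n - 2) / 6) *
        ∏ i : Fin n, (qFact q (ν i + i.val) : ℂ) =
      (qFact q n : ℂ) * ∏ i : Fin n, ∏ j ∈ Ioi i,
        ((qNat q (ν j + j.val) : ℂ) - (qNat q (ν i + i.val) : ℂ)) := by
  classical
  subst hq
  rw [← sum_sign_qFall, Cfsg.unipotentCharacterGL]
  simp only [mul_sum, sum_mul]
  refine sum_congr rfl fun κ _ => ?_
  split_ifs with h
  · rw [fixedPointCharacter_one]
    have e := index_parabolicGL (F := F) (sum_kappaComp hs h)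
    have e2 : ∀ i : Fin n, qFact (Fintype.card F) (ν i + i.val) =
        qFall (Fintype.card F) (ν i + i.val) (κ i) * qFact (Fintype.card F) (kappaComp ν κ i) :=
      fun i => (qFall_mul_qFact _ _ _ (h i)).symm
    simp only [e2]
    rw [← e]
    rw [show (fun i => ν i + i.val - (κ i).val) = kappaComp ν κ from rfl]
    push_cast [prod_mul_distrib]
    ring
  · push Not at h
    obtain ⟨i, hi⟩ := h
    rw [zero_mul, zero_mul, prod_eq_zero (f := fun j => (qFall (Fintype.card F) (ν j + j.val) (κ j) : ℂ))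
      (mem_univ i) (by simp [qFall_eq_zero _ hi])]
    simp

theorem unipotentCharacterGL_one_pos (ν : Fin n → ℕ) (hν : Monotone ν) (hs : ∑ i, ν i = n) :
    0 < (Cfsg.unipotentCharacterGL n F ν 1).re := by
  classical
  set q := Fintype.card F
  have hq : 0 < q := Fintype.card_pos
  have hlt : ∀ i j : Fin n, i < j → qNat q (ν i + i.val) < qNat q (ν j + j.val) := by
    intro i j hij
    have h := strictMono_shift hν hij
    simp only at h
    obtain ⟨t, ht⟩ := Nat.exists_eq_add_of_lt h
    rw [ht, add_assoc, qNat_add q (ν i + i.val)]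
    exact Nat.lt_add_of_pos_right (mul_pos (pow_pos hq _) (qNat_pos (Nat.succ_pos t)))
  have key := unipotentCharacterGL_one (F := F) q rfl ν hs
  have hR : ((qFact q n : ℂ) * ∏ i : Fin n, ∏ j ∈ Ioi i,
      ((qNat q (ν j + j.val) : ℂ) - (qNat q (ν i + i.val) : ℂ))) =
      ((qFact q n * ∏ i : Fin n, ∏ j ∈ Ioi i,
        (qNat q (ν j + j.val) - qNat q (ν i + i.val)) : ℕ) : ℂ) := by
    push_cast
    congr 1
    exact prod_congr rfl fun i _ => prod_congr rfl fun j hj => by
      rw [Nat.cast_sub (hlt i j (mem_Ioi.1 hj)).le]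
  rw [hR, mul_assoc] at key
  have hRpos : (0 : ℝ) < ((qFact q n * ∏ i : Fin n, ∏ j ∈ Ioi i,
      (qNat q (ν j + j.val) - qNat q (ν i + i.val)) : ℕ) : ℝ) :=
    Nat.cast_pos.2 (mul_pos (qFact_pos _ _) (prod_pos fun i _ => prod_pos fun j hj =>
      Nat.sub_pos_of_lt (hlt i j (mem_Ioi.1 hj))))
  have hLpos : (0 : ℝ) < ((q ^ (n * (n - 1) * (n - 2) / 6) * ∏ i : Fin n, qFact q (ν i + i.val) : ℕ) : ℝ) :=
    Nat.cast_pos.2 (mul_pos (pow_pos hq _) (prod_pos fun i _ => qFact_pos _ _))
  have key' : Cfsg.unipotentCharacterGL n F ν 1 *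
      ((q ^ (n * (n - 1) * (n - 2) / 6) * ∏ i : Fin n, qFact q (ν i + i.val) : ℕ) : ℂ) =
      ((qFact q n * ∏ i : Fin n, ∏ j ∈ Ioi i,
      (qNat q (ν j + j.val) - qNat q (ν i + i.val)) : ℕ) : ℂ) := by
    push_cast
    exact_mod_cast key
  have := congr_arg Complex.re key'
  simp only [Complex.mul_re, Complex.natCast_re, Complex.natCast_im, mul_zero, sub_zero] at this
  rw [← this] at hRpos
  exact pos_of_mul_pos_left hRpos hLpos.le

theorem isIrrCharacter_unipotent (ν : Fin n → ℕ) (hν : Monotone ν) (hs : ∑ i, ν i = n) :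
    Cfsg.IsIrrCharacter (GL (Fin n) F) (Cfsg.unipotentCharacterGL n F ν) := by
  classical
  rw [unipotentCharacterGL_eq]
  refine isIrr_of_norm_one _ (fun κ => (Equiv.Perm.sign κ : ℤ)) _
    (fun κ _ => isCharacter_fixedPointCharacter _) ?_ ?_
  · rw [← unipotentCharacterGL_eq, classInner_unipotent hν hs hν hs, if_pos rfl]
  · rw [← unipotentCharacterGL_eq]
    exact unipotentCharacterGL_one_pos ν hν hs

end GLn

end CfsgLib.FlagChar
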